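import Groth.Agent.Linkage88.Flat
import Groth.Agent.LocCohSweep.DepthGrade
import Groth.Agent.Gor.CechHull
import Groth.Agent.EGA4Lib.MiracleModule
import Mathlib

/-!
# Linkage in Gorenstein local rings

The link of an almost complete intersection, and the intersection of two geometrically linked
quotients, are Gorenstein.
-/

set_option autoImplicit false
set_option linter.style.haveILetI false
universe u

open IsLocalRing RingTheory.Sequence

noncomputable section

namespace Groth.Agent.LiaisonGr

open Linkage88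

variable {A : Type u} [CommRing A]

/-- `dim A = dim A/L + ht L` in a Cohen–Macaulay local ring. -/
theorem dim_add_height [LocCoh.IsCohenMacaulayLocalRing A] {L : Ideal A} (hL : L ≠ ⊤) :
    ringKrullDim A = ringKrullDim (A ⧸ L) + ((L.height : ℕ∞) : WithBot ℕ∞) := by
  have h1 := Depth.supportDim_eq_supportDim_quotient_add_idealDepth (M := A) (le_maximalIdeal hL)
    ((Depth.isCohenMacaulayLocalRing_iff (R := A)).mp inferInstance)
  have h2 : Module.supportDim A (A ⧸ (L • (⊤ : Submodule A A))) = ringKrullDim (A ⧸ L) := by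
    rw [Module.supportDim_eq_of_equiv (Submodule.quotEquivOfEq (L • (⊤ : Submodule A A)) L
      (by rw [smul_eq_mul, Ideal.mul_top])), Module.supportDim_quotient_eq_ringKrullDim]
  rw [Module.supportDim_self_eq_ringKrullDim, h2,
    LocCohSweep.isCohenMacaulayRing_iff_grade.mp Depth.isCohenMacaulayRing_of_isCohenMacaulayLocalRing L hL] at h1
  exact h1

/-- A complete intersection in a Gorenstein local ring is Gorenstein. -/
theorem gor_ci [LocCoh.IsGorensteinLocalRing A] (l : List A) (hl : ∀ a ∈ l, a ∈ maximalIdeal A)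
    (hh : (l.length : ℕ∞) ≤ (Ideal.ofList l).height) : LocCoh.IsGorensteinLocalRing (A ⧸ Ideal.ofList l) := by
  haveI := Gor.Basic.isCohenMacaulay_of_gorenstein (A := A)
  have hne : Ideal.ofList l ≠ ⊤ := fun h => (maximalIdeal.isMaximal A).ne_top
    (top_le_iff.mp (h ▸ Ideal.span_le.mpr hl))
  have hreg : IsWeaklyRegular A l := by
    refine EGA4Lib.MiracleModule.isWeaklyRegular_of_dim_drop l A
      ((Depth.isCohenMacaulayLocalRing_iff (R := A)).mp inferInstance) hl ?_
    rw [Module.supportDim_eq_of_equiv (Submodule.quotEquivOfEq (Ideal.ofList l • (⊤ : Submodule A A))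
      (Ideal.ofList l) (by rw [smul_eq_mul, Ideal.mul_top])), Module.supportDim_quotient_eq_ringKrullDim,
      Module.supportDim_self_eq_ringKrullDim, dim_add_height hne]
    exact add_le_add le_rfl (WithBot.coe_le_coe.mpr hh)
  exact Gor.CechHull.gorenstein_quotient_list l.length A l rfl hreg hl

/-- A nonzero principal submodule of an Artinian Gorenstein ring has simple socle. -/
theorem gor_of_socle [LocCoh.IsGorensteinLocalRing A] {φ : ResidueField A →ₗ[A] A}
    (hφ : Function.Injective φ) (b : A) (hb : b ≠ 0) (K : Ideal A) (hK : ∀ a, a ∈ K ↔ a * b = 0) :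
    LocCoh.IsGorensteinLocalRing (A ⧸ K) ∧ ringKrullDim (A ⧸ K) = 0 ∧ ringKrullDim A = 0 := by
  obtain ⟨n, hn⟩ := Gor.Basic.exists_hasInjectiveDimensionLT (A := A)
  have hinj := Gor.Basic.injective_of_socle_of_finite_id hφ n hn
  haveI := Gor.Basic.artinian_of_injective hφ hinj
  have hsA := Gor.Basic.length_socle_of_injective hφ hinj
  have hKt : K ≠ ⊤ := fun h => hb (by simpa using (hK 1).mp (h ▸ Submodule.mem_top))
  haveI : Nontrivial (A ⧸ K) := Ideal.Quotient.nontrivial_iff.mpr hKt
  haveI : IsLocalRing (A ⧸ K) := IsLocalRing.of_surjective' (Ideal.Quotient.mk K) Ideal.Quotient.mk_surjective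
  haveI : IsLocalHom (Ideal.Quotient.mk K) := IsLocalHom.of_surjective _ Ideal.Quotient.mk_surjective
  haveI : IsArtinianRing (A ⧸ K) := Ideal.Quotient.mk_surjective.isArtinianRing
  let j : (A ⧸ K) →ₗ[A] A := Submodule.liftQ K (LinearMap.mulRight A b) fun a ha => by
    rw [LinearMap.mem_ker, LinearMap.mulRight_apply]; exact (hK a).mp ha
  have hj : Function.Injective j := by
    rw [injective_iff_map_eq_zero]
    intro y hy
    obtain ⟨a, rfl⟩ := Ideal.Quotient.mk_surjective y
    exact Ideal.Quotient.eq_zero_iff_mem.mpr ((hK a).mpr hy)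
  let V : Submodule (A ⧸ K) (A ⧸ K) := LocCoh.torsionBy (maximalIdeal (A ⧸ K)) (A ⧸ K)
  let f : V →ₗ[A] LocCoh.torsionBy (maximalIdeal A) A :=
    LinearMap.codRestrict _ (j.comp (V.subtype.restrictScalars A)) fun v => by
      refine (Submodule.mem_torsionBySet_iff _ _).mpr fun a => ?_
      have h0 : (Ideal.Quotient.mk K (a : A)) • (v : A ⧸ K) = 0 :=
        (Submodule.mem_torsionBySet_iff _ _).mp v.2 ⟨_, (map_mem_nonunits_iff (Ideal.Quotient.mk K) (a : A)).mpr a.2⟩
      change (a : A) • j (v : A ⧸ K) = 0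
      rw [← map_smul, show (a : A) • (v : A ⧸ K) = 0 from h0, map_zero]
  have hf : Function.Injective f := fun v w h => by
    have := congrArg Subtype.val h
    exact Subtype.ext (hj this)
  have hle : Module.length (A ⧸ K) V ≤ 1 := by
    rw [← Module.length_eq_of_surjective (S := A) (M := V) Ideal.Quotient.mk_surjective, ← hsA]
    exact Module.length_le_of_injective f hf
  obtain ⟨ψ, hψ⟩ := Gor.Basic.exists_socle_of_artinian (A := A ⧸ K)
  have hne : Module.length (A ⧸ K) V ≠ 0 := by
    rw [Ne, Module.length_eq_zero_iff]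
    intro hsub
    have hmem : ψ 1 ∈ V := (Submodule.mem_torsionBySet_iff _ _).mpr fun a => by
      rw [← map_smul, InjHull.Matlis.residue_smul_eq_zero a.2, map_zero]
    have h1 : (⟨ψ 1, hmem⟩ : V) = 0 := Subsingleton.elim _ _
    exact one_ne_zero (hψ ((congrArg Subtype.val h1).trans (map_zero ψ).symm))
  refine ⟨Gor.Basic.gorenstein_of_injective (Gor.Basic.injective_of_simple_socle
    (le_antisymm hle (Order.one_le_iff_pos.mpr (pos_iff_ne_zero.mpr hne)))),
    ringKrullDimZero_iff_ringKrullDim_eq_zero.mp inferInstance,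
    ringKrullDimZero_iff_ringKrullDim_eq_zero.mp inferInstance⟩

/-- The image of `x` in `A/K` cuts out `(A/x)/K`. -/
def quotComm (K : Ideal A) (x : A) :
    ((A ⧸ Ideal.span {x}) ⧸ K.map (Ideal.Quotient.mk (Ideal.span {x}))) ≃+*
      ((A ⧸ K) ⧸ Ideal.span {Ideal.Quotient.mk K x}) :=
  (DoubleQuot.quotQuotEquivComm (Ideal.span {x}) K).trans
    (Ideal.quotEquivOfEq (by rw [Ideal.map_span, Set.image_singleton]))

theorem mem_map_mk_iff (K L : Ideal A) (a : A) :
    Ideal.Quotient.mk L a ∈ K.map (Ideal.Quotient.mk L) ↔ a ∈ K ⊔ L := by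
  rw [← Ideal.mem_comap, Ideal.comap_map_of_surjective _ Ideal.Quotient.mk_surjective,
    ← RingHom.ker_eq_comap_bot, Ideal.mk_ker]

/-- The link of a principal maximal Cohen–Macaulay ideal is Gorenstein. -/
theorem gor_link_principal : ∀ (d : ℕ) (A : Type u) [CommRing A] [LocCoh.IsGorensteinLocalRing A]
    (f : A) (K : Ideal A), ringKrullDim A = d → IsMCMQuot A (Ideal.span {f}) → f ≠ 0 →
      (∀ a, a ∈ K ↔ a * f = 0) → LocCoh.IsGorensteinLocalRing (A ⧸ K) := by
  intro d
  induction d using Nat.strong_induction_on with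
  | _ d ih =>
    intro A _ _ f K hd hI hf hK
    rcases Gor.Basic.exists_regular_or_socle (A := A) with ⟨x, hxm, hx⟩ | ⟨φ, hφ⟩
    swap
    · exact (gor_of_socle hφ f hf K hK).1
    haveI := Gor.Basic.isLocalRing_quotient A hxm
    haveI := (Gor.Basic.gorenstein_quotient_iff hxm hx).mp inferInstance
    obtain ⟨e, he⟩ := Gor.Basic.exists_natCast_ringKrullDim (A := A ⧸ Ideal.span {x})
    have hed : e < d := by
      have := ringKrullDim_quotient_span_singleton_succ_eq_ringKrullDim hx hxm
      rw [he, hd] at this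
      norm_cast at this
      omega
    have hxI := isSMulRegular_quot hI hx
    let mk := Ideal.Quotient.mk (Ideal.span {x})
    have hI' : IsMCMQuot (A ⧸ Ideal.span {x}) (Ideal.span {mk f}) := by
      simpa [Ideal.map_span] using quotient hxm hx hI
    have hf' : mk f ≠ 0 := fun h => by
      obtain ⟨b, hb, hfb⟩ := mem_span_mul hxI (Ideal.mem_span_singleton_self f)
        (Ideal.Quotient.eq_zero_iff_mem.mp h)
      obtain ⟨c, rfl⟩ := Ideal.mem_span_singleton'.mp hb
      have h0 : (1 - x * c) * f = 0 := by rw [sub_mul, one_mul, mul_assoc, ← hfb, sub_self]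
      have hu : IsUnit (1 - x * c) :=
        isUnit_one_sub_self_of_mem_nonunits _ (Ideal.mul_mem_right c _ hxm)
      exact hf (hu.mul_right_eq_zero.mp h0)
    have hK' : ∀ y, y ∈ K.map mk ↔ y * mk f = 0 := fun y => by
      obtain ⟨a, rfl⟩ := Ideal.Quotient.mk_surjective y
      rw [mem_map_mk_iff, ← map_mul, Ideal.Quotient.eq_zero_iff_mem]
      constructor
      · intro ha
        obtain ⟨k, hk, z, hz, rfl⟩ := Submodule.mem_sup.mp ha
        rw [add_mul, (hK k).mp hk, zero_add]
        exact Ideal.mul_mem_right _ _ hz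
      · intro ha
        obtain ⟨b, hb, hfb⟩ := mem_span_mul hxI
          (Ideal.mul_mem_left _ a (Ideal.mem_span_singleton_self f)) ha
        obtain ⟨c, rfl⟩ := Ideal.mem_span_singleton'.mp hb
        rw [show a = (a - x * c) + x * c by ring]
        exact Submodule.add_mem_sup ((hK _).mpr (by rw [sub_mul, hfb]; ring))
          (Ideal.mul_mem_right _ _ (Ideal.mem_span_singleton_self x))
    have hG := ih e hed (A ⧸ Ideal.span {x}) (mk f) (K.map mk) he hI' hf' hK'
    have hKt : K ≠ ⊤ := fun h => hf (by simpa using (hK 1).mp (h ▸ Submodule.mem_top))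
    haveI : Nontrivial (A ⧸ K) := Ideal.Quotient.nontrivial_iff.mpr hKt
    haveI : IsLocalRing (A ⧸ K) :=
      IsLocalRing.of_surjective' (Ideal.Quotient.mk K) Ideal.Quotient.mk_surjective
    haveI : IsLocalHom (Ideal.Quotient.mk K) := IsLocalHom.of_surjective _ Ideal.Quotient.mk_surjective
    have hxK : IsSMulRegular (A ⧸ K) (Ideal.Quotient.mk K x) := by
      refine isSMulRegular_iff_right_eq_zero_of_smul.mpr fun y hy => ?_
      obtain ⟨a, rfl⟩ := Ideal.Quotient.mk_surjective y
      rw [smul_eq_mul, ← map_mul, Ideal.Quotient.eq_zero_iff_mem, hK] at hy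
      rw [Ideal.Quotient.eq_zero_iff_mem, hK]
      refine isSMulRegular_iff_right_eq_zero_of_smul.mp hx _ ?_
      rw [smul_eq_mul, ← hy]; ring
    refine (Gor.Basic.gorenstein_quotient_iff ((map_mem_nonunits_iff _ x).mpr hxm) hxK).mpr ?_
    exact Gor.FlatLocal.gorenstein_of_ringEquiv (quotComm K x)

/-- An ideal containing no associated prime's worth of zero divisors cuts the dimension. -/
theorem dim_lt_of_regular_mem [IsLocalRing A] [IsNoetherianRing A] {K : Ideal A} {x : A}
    (hxK : x ∈ K) (hK : K ≠ ⊤) (hx : IsSMulRegular A x) :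
    ringKrullDim (A ⧸ K) < ringKrullDim A := by
  have hxm : x ∈ maximalIdeal A := le_maximalIdeal hK hxK
  haveI := Gor.Basic.isLocalRing_quotient A hxm
  have h1 := Depth.le_ringKrullDim_quotient_of_le ((Ideal.span_singleton_le_iff_mem K).mpr hxK)
  obtain ⟨d, hd⟩ := Gor.Basic.exists_natCast_ringKrullDim (A := A ⧸ Ideal.span {x})
  rw [← ringKrullDim_quotient_span_singleton_succ_eq_ringKrullDim hx hxm, hd]
  refine lt_of_le_of_lt (h1.trans hd.le) ?_
  exact_mod_cast Nat.lt_succ_self d

/-- The intersection of two geometrically linked maximal Cohen–Macaulay quotients. -/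
theorem gor_sup : ∀ (d : ℕ) (A : Type u) [CommRing A] [LocCoh.IsGorensteinLocalRing A]
    (I₁ I₂ : Ideal A), ringKrullDim A = d → I₁ ⊓ I₂ = ⊥ → IsMCMQuot A I₁ → IsMCMQuot A I₂ →
      I₁ ⊔ I₂ ≠ ⊤ → ringKrullDim (A ⧸ (I₁ ⊔ I₂)) < ringKrullDim A →
      LocCoh.IsGorensteinLocalRing (A ⧸ (I₁ ⊔ I₂)) ∧
        ringKrullDim (A ⧸ (I₁ ⊔ I₂)) + 1 = ringKrullDim A := by
  intro d
  induction d using Nat.strong_induction_on with
  | _ d ih =>
    intro A _ _ I₁ I₂ hd hinf h₁ h₂ hK hlt
    set K := I₁ ⊔ I₂ with hKdef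
    haveI : Nontrivial (A ⧸ K) := Ideal.Quotient.nontrivial_iff.mpr hK
    haveI : IsLocalRing (A ⧸ K) :=
      IsLocalRing.of_surjective' (Ideal.Quotient.mk K) Ideal.Quotient.mk_surjective
    haveI : IsLocalHom (Ideal.Quotient.mk K) := IsLocalHom.of_surjective _ Ideal.Quotient.mk_surjective
    have hcm : LocCoh.IsCohenMacaulayModule A A := (Depth.isCohenMacaulayLocalRing_iff (R := A)).mp
      (Gor.Basic.isCohenMacaulay_of_gorenstein (A := A))
    have hz : ∀ {p q : A}, p ∈ I₁ → q ∈ I₂ → p * q = 0 := fun {p q} hp hq => by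
      have : p * q ∈ I₁ ⊓ I₂ := ⟨Ideal.mul_mem_right _ _ hp, Ideal.mul_mem_left _ _ hq⟩
      simpa [hinf] using this
    by_cases hu : ∃ u ∈ maximalIdeal A, IsSMulRegular (A × (A ⧸ K)) u
    · obtain ⟨u, hum, hu⟩ := hu
      have huA : IsSMulRegular A u := fun a b h =>
        congrArg Prod.fst (hu (Prod.ext h rfl : u • (a, (0 : A ⧸ K)) = u • (b, 0)))
      have huK : IsSMulRegular (A ⧸ K) u := fun a b h =>
        congrArg Prod.snd (hu (Prod.ext rfl h : u • ((0 : A), a) = u • (0, b)))
      haveI := Gor.Basic.isLocalRing_quotient A hum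
      haveI := (Gor.Basic.gorenstein_quotient_iff hum huA).mp inferInstance
      obtain ⟨e, he⟩ := Gor.Basic.exists_natCast_ringKrullDim (A := A ⧸ Ideal.span {u})
      have hde := ringKrullDim_quotient_span_singleton_succ_eq_ringKrullDim huA hum
      have hed : e < d := by
        rw [he, hd] at hde
        norm_cast at hde
        omega
      let mk := Ideal.Quotient.mk (Ideal.span {u})
      have hinf' : I₁.map mk ⊓ I₂.map mk = ⊥ := by
        refine (Submodule.eq_bot_iff _).mpr fun y hy => ?_
        obtain ⟨a, rfl⟩ := Ideal.Quotient.mk_surjective y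
        obtain ⟨hy1, hy2⟩ := hy
        obtain ⟨i, hi, z, hz', rfl⟩ := Submodule.mem_sup.mp ((mem_map_mk_iff _ _ a).mp hy1)
        obtain ⟨b, rfl⟩ := Ideal.mem_span_singleton'.mp hz'
        obtain ⟨j, hj, z, hz', he'⟩ := Submodule.mem_sup.mp ((mem_map_mk_iff _ _ _).mp hy2)
        obtain ⟨c, rfl⟩ := Ideal.mem_span_singleton'.mp hz'
        have hcb : c - b ∈ K := by
          rw [← Ideal.Quotient.eq_zero_iff_mem]
          refine isSMulRegular_iff_right_eq_zero_of_smul.mp huK _ ?_
          show Ideal.Quotient.mk K (u * (c - b)) = 0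
          rw [Ideal.Quotient.eq_zero_iff_mem, show u * (c - b) = i - j by linear_combination he']
          exact sub_mem (Submodule.mem_sup_left hi) (Submodule.mem_sup_right hj)
        obtain ⟨p, hp, q, hq, hpq⟩ := Submodule.mem_sup.mp hcb
        have h0 : i - u * p = 0 := by
          have : i - u * p ∈ I₁ ⊓ I₂ := ⟨sub_mem hi (Ideal.mul_mem_left _ _ hp), by
            rw [show i - u * p = j + u * q by linear_combination (-1 : A) * he' - u * hpq]
            exact add_mem hj (Ideal.mul_mem_left _ _ hq)⟩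
          simpa [hinf] using this
        rw [Ideal.Quotient.eq_zero_iff_mem, sub_eq_zero.mp h0]
        exact add_mem (Ideal.mul_mem_right _ _ (Ideal.mem_span_singleton_self u))
          (Ideal.mul_mem_left _ _ (Ideal.mem_span_singleton_self u))
      have hmapK : K.map mk = I₁.map mk ⊔ I₂.map mk := Ideal.map_sup mk I₁ I₂
      have hK' : I₁.map mk ⊔ I₂.map mk ≠ ⊤ := fun h => by
        have h1 : mk 1 ∈ K.map mk := by rw [hmapK, h]; trivial
        exact (maximalIdeal.isMaximal A).ne_top ((Ideal.eq_top_iff_one _).mpr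
          (sup_le (le_maximalIdeal hK) ((Ideal.span_singleton_le_iff_mem _).mpr hum)
            ((mem_map_mk_iff _ _ _).mp h1)))
      have hum' : Ideal.Quotient.mk K u ∈ maximalIdeal (A ⧸ K) := (map_mem_nonunits_iff _ u).mpr hum
      have huK' : IsSMulRegular (A ⧸ K) (Ideal.Quotient.mk K u) := fun a b h => huK h
      let ε : ((A ⧸ Ideal.span {u}) ⧸ (I₁.map mk ⊔ I₂.map mk)) ≃+*
          (A ⧸ K) ⧸ Ideal.span {Ideal.Quotient.mk K u} :=
        (Ideal.quotEquivOfEq hmapK.symm).trans (quotComm K u)
      have hdim := ringKrullDim_quotient_span_singleton_succ_eq_ringKrullDim huK' hum'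
      haveI := Gor.Basic.isLocalRing_quotient (A ⧸ K) hum'
      obtain ⟨b, hb⟩ := Gor.Basic.exists_natCast_ringKrullDim
        (A := (A ⧸ K) ⧸ Ideal.span {Ideal.Quotient.mk K u})
      rw [hb] at hdim
      have hbe : b < e := by
        rw [← hdim, ← hde, he] at hlt
        norm_cast at hlt
        omega
      have hlt' : ringKrullDim ((A ⧸ Ideal.span {u}) ⧸ (I₁.map mk ⊔ I₂.map mk)) <
          ringKrullDim (A ⧸ Ideal.span {u}) := by
        rw [ringKrullDim_eq_of_ringEquiv ε, hb, he]
        exact_mod_cast hbe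
      obtain ⟨hG, hD⟩ := ih e hed (A ⧸ Ideal.span {u}) (I₁.map mk) (I₂.map mk) he hinf'
        (quotient hum huA h₁) (quotient hum huA h₂) hK' hlt'
      refine ⟨(Gor.Basic.gorenstein_quotient_iff hum' huK').mpr
        (Gor.FlatLocal.gorenstein_of_ringEquiv ε), ?_⟩
      rw [ringKrullDim_eq_of_ringEquiv ε, hb] at hD
      rw [← hdim, ← hde, ← hD]
    · push Not at hu
      have hass : maximalIdeal A ∈ associatedPrimes A A ∨ maximalIdeal A ∈ associatedPrimes A (A ⧸ K) := by
        by_contra hc
        push Not at hc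
        refine absurd (Depth.exists_isSMulRegular_of_forall_not_le (M := A × (A ⧸ K))
          (I := maximalIdeal A) fun p hp hle => ?_) fun ⟨u, hum, h⟩ => hu u hum h
        have hpe : p = maximalIdeal A := ((maximalIdeal.isMaximal A).eq_of_le
          (Depth.isPrime_of_mem_associatedPrimes hp).ne_top hle).symm
        rw [associatedPrimes.prod, hpe] at hp
        exact hp.elim hc.1 hc.2
      have hnle : ∀ p ∈ associatedPrimes A A, ¬ K ≤ p := fun p hp hle => by
        have h1 := Depth.ringKrullDim_quotient_associatedPrime hcm hp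
        rw [Module.supportDim_self_eq_ringKrullDim] at h1
        exact absurd (h1 ▸ Depth.le_ringKrullDim_quotient_of_le hle) (not_le_of_gt hlt)
      have hA : maximalIdeal A ∉ associatedPrimes A A := fun h => hnle _ h (le_maximalIdeal hK)
      obtain ⟨x, hxK, hx⟩ := Depth.exists_isSMulRegular_of_forall_not_le (M := A) hnle
      have hxm : x ∈ maximalIdeal A := le_maximalIdeal hK hxK
      obtain ⟨y, hy, z, hz', hxyz⟩ := Submodule.mem_sup.mp hxK
      haveI := Gor.Basic.isLocalRing_quotient A hxm
      haveI := (Gor.Basic.gorenstein_quotient_iff hxm hx).mp inferInstance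
      let mk := Ideal.Quotient.mk (Ideal.span {x})
      have hx1 := isSMulRegular_quot h₁ hx
      have hx2 := isSMulRegular_quot h₂ hx
      have hmem : ∀ (I : Ideal A), IsSMulRegular (A ⧸ I) x → ∀ a, x * a ∈ I → a ∈ I := fun I hI a ha =>
        Ideal.Quotient.eq_zero_iff_mem.mp (isSMulRegular_iff_right_eq_zero_of_smul.mp hI _
          (Ideal.Quotient.eq_zero_iff_mem.mpr ha))
      have hker : ∀ a, a ∈ K ↔ mk a * mk y = 0 := fun a => by
        rw [← map_mul, Ideal.Quotient.eq_zero_iff_mem]
        constructor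
        · intro ha
          obtain ⟨p, hp, q, hq, rfl⟩ := Submodule.mem_sup.mp ha
          refine Ideal.mem_span_singleton'.mpr ⟨p, ?_⟩
          linear_combination hz hp hz' - hz hy hq - p * hxyz
        · intro ha
          obtain ⟨b, hb⟩ := Ideal.mem_span_singleton'.mp ha
          have he' : (a - b) * y = b * z := by linear_combination -hb - b * hxyz
          have h0 : b * z = 0 := by
            have : b * z ∈ I₁ ⊓ I₂ :=
              ⟨he' ▸ Ideal.mul_mem_left _ _ hy, Ideal.mul_mem_left _ _ hz'⟩
            simpa [hinf] using this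
          have hb1 : b ∈ I₁ := hmem _ hx1 b (by
            rw [show x * b = b * y by linear_combination h0 - b * hxyz]
            exact Ideal.mul_mem_left _ _ hy)
          have hb2 : a - b ∈ I₂ := hmem _ hx2 _ (by
            rw [show x * (a - b) = (a - b) * z by
              linear_combination he' + h0 - (a - b) * hxyz]
            exact Ideal.mul_mem_left _ _ hz')
          rw [show a = b + (a - b) by ring]
          exact Submodule.add_mem_sup hb1 hb2
      have hxle : Ideal.span {x} ≤ K := (Ideal.span_singleton_le_iff_mem K).mpr hxK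
      have hy0 : mk y ≠ 0 := fun h => hK ((Ideal.eq_top_iff_one K).mpr ((hker 1).mpr (by rw [h, mul_zero])))
      have hK'' : ∀ c, c ∈ K.map mk ↔ c * mk y = 0 := fun c => by
        obtain ⟨a, rfl⟩ := Ideal.Quotient.mk_surjective c
        rw [mem_map_mk_iff, sup_eq_left.mpr hxle]
        exact hker a
      -- the residue field embeds in `A/(x)`
      obtain ⟨φ, hφ⟩ : ∃ φ : ResidueField (A ⧸ Ideal.span {x}) →ₗ[A ⧸ Ideal.span {x}] (A ⧸ Ideal.span {x}),
          Function.Injective φ := by
        rcases Gor.Basic.exists_regular_or_socle (A := A ⧸ Ideal.span {x}) with ⟨w, hwm, hw⟩ | h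
        swap
        · exact h
        exfalso
        obtain ⟨-, ψ, hψ⟩ := (isAssociatedPrime_iff_exists_injective_linearMap _ _).mp (hass.resolve_left hA)
        obtain ⟨w, rfl⟩ := Ideal.Quotient.mk_surjective w
        haveI : IsLocalHom mk := IsLocalHom.of_surjective _ Ideal.Quotient.mk_surjective
        have hwm' : w ∈ maximalIdeal A := (map_mem_nonunits_iff mk w).mp hwm
        obtain ⟨a, ha⟩ := Ideal.Quotient.mk_surjective (ψ (Ideal.Quotient.mk _ 1))
        have hwa : w * a ∈ K := by
          rw [← Ideal.Quotient.eq_zero_iff_mem]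
          have h0 : (w • Ideal.Quotient.mk (maximalIdeal A) (1 : A)) = 0 :=
            Ideal.Quotient.eq_zero_iff_mem.mpr (by simpa using hwm')
          have h1 := map_smul ψ w (Ideal.Quotient.mk _ 1)
          rw [h0, map_zero, ← ha] at h1
          rw [map_mul]
          exact h1.symm
        have h2 : mk a * mk y = 0 := isSMulRegular_iff_right_eq_zero_of_smul.mp hw _ (by
          rw [smul_eq_mul, ← mul_assoc, ← map_mul]
          exact (hker _).mp hwa)
        have h3 : ψ (Ideal.Quotient.mk _ 1) = 0 := by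
          rw [← ha, Ideal.Quotient.eq_zero_iff_mem]
          exact (hker a).mpr h2
        have h4 := hψ (h3.trans (map_zero ψ).symm)
        rw [Ideal.Quotient.eq_zero_iff_mem] at h4
        exact (maximalIdeal.isMaximal A).ne_top ((Ideal.eq_top_iff_one _).mpr h4)
      obtain ⟨hG, hK0, hB0⟩ := gor_of_socle hφ (mk y) hy0 (K.map mk) hK''
      let ε : ((A ⧸ Ideal.span {x}) ⧸ K.map mk) ≃+* A ⧸ K := DoubleQuot.quotQuotEquivQuotOfLE hxle
      refine ⟨Gor.FlatLocal.gorenstein_of_ringEquiv ε, ?_⟩
      rw [← ringKrullDim_eq_of_ringEquiv ε, hK0,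
        ← ringKrullDim_quotient_span_singleton_succ_eq_ringKrullDim hx hxm, hB0]

/-- The annihilator of an ideal cuts out a quotient of full dimension. -/
theorem dim_quot_annihilator [LocCoh.IsCohenMacaulayLocalRing A] {J : Ideal A}
    (h : Submodule.annihilator J ≠ ⊤) :
    ringKrullDim (A ⧸ Submodule.annihilator J) = ringKrullDim A := by
  refine le_antisymm (ringKrullDim_le_of_surjective _ Ideal.Quotient.mk_surjective) ?_
  obtain ⟨j, hj, hj0⟩ : ∃ j ∈ J, j ≠ 0 := by
    by_contra hc
    push Not at hc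
    exact h ((Ideal.eq_top_iff_one _).mpr (Submodule.mem_annihilator.mpr fun n hn => by
      rw [one_smul]; exact hc n hn))
  obtain ⟨P, hP, hle⟩ := exists_le_isAssociatedPrime_of_isNoetherianRing A j hj0
  have h1 := Depth.ringKrullDim_quotient_associatedPrime
    ((Depth.isCohenMacaulayLocalRing_iff (R := A)).mp inferInstance) hP
  rw [Module.supportDim_self_eq_ringKrullDim] at h1
  rw [← h1]
  refine Depth.le_ringKrullDim_quotient_of_le fun a ha => hle ?_
  rw [Submodule.mem_colon_singleton, Submodule.mem_bot]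
  exact Submodule.mem_annihilator.mp ha j hj

end Groth.Agent.LiaisonGr
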