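import Groth.Agent.LiaisonGr.Std

/-!
# Linkage of arithmetically Cohen–Macaulay subschemes
-/

set_option autoImplicit false
set_option linter.style.haveILetI false
universe u

open IsLocalRing

noncomputable section

namespace Groth.Agent.LiaisonGr

open Linkage88

variable {K : Type u} [Field K] {n : ℕ}

-- a shortcut: nested quotients of the vertex ring do not find their instance otherwise
local instance (C : Ideal (Pol K n)) : CommRing (Vtx K n ⧸ ext C) := Ideal.Quotient.commRing _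

/-- The image of `I` in the local ring of `R/𝔠` at the vertex. -/
abbrev img (𝔠 I : Ideal (Pol K n)) : Ideal (Vtx K n ⧸ ext 𝔠) := (ext I).map (Ideal.Quotient.mk (ext 𝔠))

/-- The local ring of `R/I` at the vertex as a quotient of that of `R/𝔠`. -/
def imgEquiv {𝔠 I : Ideal (Pol K n)} (h : 𝔠 ≤ I) : ((Vtx K n ⧸ ext 𝔠) ⧸ img 𝔠 I) ≃+* Vtx K n ⧸ ext I :=
  DoubleQuot.quotQuotEquivQuotOfLE (Ideal.map_mono h)

theorem annihilator_img (𝔠 I : Ideal (Pol K n)) :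
    Submodule.annihilator (img 𝔠 I) = img 𝔠 (𝔠.colon (I : Set (Pol K n))) := by
  rw [annihilator_map_mk, ← ext_colon]

theorem img_ne_top {𝔠 I : Ideal (Pol K n)} (h : 𝔠 ≤ I) (hle : I ≤ irr K n) : img 𝔠 I ≠ ⊤ := fun e => by
  have h1 : (1 : Vtx K n) ∈ ext I ⊔ ext 𝔠 := (mem_map_mk_iff _ _ _).mp (by change _ ∈ img 𝔠 I; rw [e]; exact Submodule.mem_top)
  rw [sup_eq_left.mpr (Ideal.map_mono h)] at h1
  exact ext_ne_top hle ((Ideal.eq_top_iff_one _).mpr h1)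

theorem dim_img {𝔠 I : Ideal (Pol K n)} (h : 𝔠 ≤ I) :
    ringKrullDim ((Vtx K n ⧸ ext 𝔠) ⧸ img 𝔠 I) = ringKrullDim (Vtx K n ⧸ ext I) :=
  ringKrullDim_eq_of_ringEquiv (imgEquiv h)

/-- Homogeneous ideals of the same height cut out the same dimension at the vertex. -/
theorem dim_eq_of_height_eq {I J : Ideal (Pol K n)}
    (hI : I.IsHomogeneous (GrSyz.stdGr K (Fin (n + 1)))) (hJ : J.IsHomogeneous (GrSyz.stdGr K (Fin (n + 1))))
    (hIle : I ≤ irr K n) (hJle : J ≤ irr K n) {c : ℕ} (hIc : I.height = c) (hJc : J.height = c) :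
    ringKrullDim (Vtx K n ⧸ ext I) = ringKrullDim (Vtx K n ⧸ ext J) := by
  haveI := gorenstein_vtx (K := K) (n := n)
  haveI := Gor.Basic.isCohenMacaulay_of_gorenstein (A := Vtx K n)
  haveI : Nontrivial (Vtx K n ⧸ ext I) := Ideal.Quotient.nontrivial_iff.mpr (ext_ne_top hIle)
  haveI : Nontrivial (Vtx K n ⧸ ext J) := Ideal.Quotient.nontrivial_iff.mpr (ext_ne_top hJle)
  haveI : IsLocalRing (Vtx K n ⧸ ext I) := IsLocalRing.of_surjective' (Ideal.Quotient.mk _) Ideal.Quotient.mk_surjective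
  haveI : IsLocalRing (Vtx K n ⧸ ext J) := IsLocalRing.of_surjective' (Ideal.Quotient.mk _) Ideal.Quotient.mk_surjective
  obtain ⟨a, ha⟩ := Gor.Basic.exists_natCast_ringKrullDim (A := Vtx K n ⧸ ext I)
  obtain ⟨b, hb⟩ := Gor.Basic.exists_natCast_ringKrullDim (A := Vtx K n ⧸ ext J)
  have h := (dim_add_height (ext_ne_top hIle)).symm.trans (dim_add_height (ext_ne_top hJle))
  rw [ha, hb, height_ext hI hIle, height_ext hJ hJle, hIc, hJc] at h
  rw [ha, hb]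
  have h' : a + c = b + c := by exact_mod_cast h
  exact_mod_cast (by omega : a = b)

/-- One half of Cohen–Macaulayness under linkage. -/
theorem cm_linked {𝔠 I J : Ideal (Pol K n)}
    (h𝔠 : 𝔠.IsHomogeneous (GrSyz.stdGr K (Fin (n + 1)))) (hI : I.IsHomogeneous (GrSyz.stdGr K (Fin (n + 1))))
    (hJ : J.IsHomogeneous (GrSyz.stdGr K (Fin (n + 1))))
    [hG : LocCoh.IsGorensteinRing (Pol K n ⧸ 𝔠)]
    (hIJ : 𝔠.colon (I : Set (Pol K n)) = J) (hJI : 𝔠.colon (J : Set (Pol K n)) = I)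
    (hcm : LocCoh.IsCohenMacaulayRing (Pol K n ⧸ I)) : LocCoh.IsCohenMacaulayRing (Pol K n ⧸ J) := by
  have hle𝔠 : ∀ {L L' : Ideal (Pol K n)}, 𝔠.colon (L : Set (Pol K n)) = L' → 𝔠 ≤ L' := fun h x hx =>
    h ▸ Submodule.mem_colon.mpr fun z _ => 𝔠.mul_mem_right z hx
  have h𝔠I := hle𝔠 hJI
  have h𝔠J := hle𝔠 hIJ
  rcases eq_or_ne J ⊤ with rfl | hJt
  · haveI : Subsingleton (Pol K n ⧸ (⊤ : Ideal (Pol K n))) := Ideal.Quotient.subsingleton_iff.mpr rfl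
    exact { isCohenMacaulayLocalRing_localization := fun p hp => absurd (Subsingleton.elim p ⊤) hp.ne_top }
  have hJle := le_irr hJ hJt
  have h𝔠le := h𝔠J.trans hJle
  haveI := (isGor_quot_iff h𝔠 h𝔠le).mp hG
  rcases eq_or_ne I ⊤ with rfl | hIt
  · obtain rfl : 𝔠 = J := le_antisymm h𝔠J fun x hx => by
      rw [← hIJ] at hx
      simpa using Submodule.mem_colon.mp hx 1 trivial
    exact (isCM_quot_iff h𝔠 h𝔠le).mpr (Gor.Basic.isCohenMacaulay_of_gorenstein (A := Vtx K n ⧸ ext 𝔠))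
  have hIle := le_irr hI hIt
  haveI := Gor.Basic.isCohenMacaulay_of_gorenstein (A := Vtx K n ⧸ ext 𝔠)
  haveI := (isCM_quot_iff hI hIle).mp hcm
  haveI := FlatMor.CMFlat.isCM_of_ringEquiv (imgEquiv h𝔠I).symm this
  have hannJ : Submodule.annihilator (img 𝔠 J) = img 𝔠 I := by rw [annihilator_img, hJI]
  have hannI : Submodule.annihilator (img 𝔠 I) = img 𝔠 J := by rw [annihilator_img, hIJ]
  have hdim : ringKrullDim ((Vtx K n ⧸ ext 𝔠) ⧸ img 𝔠 I) = ringKrullDim (Vtx K n ⧸ ext 𝔠) := by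
    rw [← hannJ]
    exact dim_quot_annihilator (hannJ ▸ img_ne_top h𝔠I hIle)
  have h := isCohenMacaulay_annihilator (isMCMQuot hdim) (hannI ▸ img_ne_top h𝔠J hJle)
  rw [hannI] at h
  exact (isCM_quot_iff hJ hJle).mpr (FlatMor.CMFlat.isCM_of_ringEquiv (imgEquiv h𝔠J) h)

/-- The link of an almost complete intersection is Gorenstein. -/
theorem gor_link_aci {𝔠 I : Ideal (Pol K n)}
    (h𝔠 : 𝔠.IsHomogeneous (GrSyz.stdGr K (Fin (n + 1)))) (hI : I.IsHomogeneous (GrSyz.stdGr K (Fin (n + 1))))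
    [hG : LocCoh.IsGorensteinRing (Pol K n ⧸ 𝔠)] [hcm : LocCoh.IsCohenMacaulayRing (Pol K n ⧸ I)]
    {c : ℕ} (h𝔠c : 𝔠.height = c) (hIc : I.height = c) (hlt : 𝔠 < I) {f : Pol K n}
    (hIf : I = 𝔠 ⊔ Ideal.span {f}) :
    LocCoh.IsGorensteinRing (Pol K n ⧸ 𝔠.colon (I : Set (Pol K n))) := by
  have hIt : I ≠ ⊤ := fun e => by simp [e, Ideal.height_top] at hIc
  have hIle := le_irr hI hIt
  have h𝔠le := hlt.le.trans hIle
  set J := 𝔠.colon (I : Set (Pol K n)) with hJdef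
  have hJ : J.IsHomogeneous (GrSyz.stdGr K (Fin (n + 1))) := isHomogeneous_colon hI h𝔠
  have h𝔠J : 𝔠 ≤ J := fun x hx => Submodule.mem_colon.mpr fun z _ => 𝔠.mul_mem_right z hx
  have hJt : J ≠ ⊤ := fun e => hlt.not_ge fun y hy => by
    have h1 : (1 : Pol K n) ∈ J := e ▸ Submodule.mem_top
    simpa using Submodule.mem_colon.1 h1 y hy
  have hJle := le_irr hJ hJt
  haveI := (isGor_quot_iff h𝔠 h𝔠le).mp hG
  haveI := (isCM_quot_iff hI hIle).mp hcm
  haveI := FlatMor.CMFlat.isCM_of_ringEquiv (imgEquiv hlt.le).symm this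
  have hdim : ringKrullDim ((Vtx K n ⧸ ext 𝔠) ⧸ img 𝔠 I) = ringKrullDim (Vtx K n ⧸ ext 𝔠) := by
    rw [dim_img hlt.le, dim_eq_of_height_eq hI h𝔠 hIle h𝔠le hIc h𝔠c]
  set φ := (Ideal.Quotient.mk (ext 𝔠)).comp (algebraMap (Pol K n) (Vtx K n))
  have hspan : img 𝔠 I = Ideal.span {φ f} := by
    simp only [img, ext, hIf, Ideal.map_sup]
    rw [Ideal.map_quotient_self, bot_sup_eq, Ideal.map_map, Ideal.map_span, Set.image_singleton]
  have hannI : Submodule.annihilator (img 𝔠 I) = img 𝔠 J := annihilator_img 𝔠 I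
  have hK : ∀ a, a ∈ img 𝔠 J ↔ a * φ f = 0 := fun a => by
    rw [← hannI, hspan]
    exact Submodule.mem_annihilator_span_singleton _ _
  have hf : φ f ≠ 0 := fun h0 => img_ne_top h𝔠J hJle ((Ideal.eq_top_iff_one _).mpr ((hK 1).mpr (by rw [h0, mul_zero])))
  obtain ⟨d, hd⟩ := Gor.Basic.exists_natCast_ringKrullDim (A := Vtx K n ⧸ ext 𝔠)
  have h := gor_link_principal d _ (φ f) (img 𝔠 J) hd (hspan ▸ isMCMQuot hdim) hf hK
  exact (isGor_quot_iff hJ hJle).mpr (Gor.FlatLocal.gorenstein_of_ringEquiv (imgEquiv h𝔠J))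

/-- A homogeneous complete intersection is Gorenstein. -/
theorem gor_ci_std {𝔠 : Ideal (Pol K n)} (h𝔠 : 𝔠.IsHomogeneous (GrSyz.stdGr K (Fin (n + 1)))) {c : ℕ}
    (g : Fin c → Pol K n) (hg : Ideal.span (Set.range g) = 𝔠) (h𝔠c : 𝔠.height = c) :
    LocCoh.IsGorensteinRing (Pol K n ⧸ 𝔠) := by
  have hne : 𝔠 ≠ ⊤ := fun e => by simp [e, Ideal.height_top] at h𝔠c
  have hle := le_irr h𝔠 hne
  haveI := gorenstein_vtx (K := K) (n := n)
  let l : List (Vtx K n) := (List.ofFn g).map (algebraMap (Pol K n) (Vtx K n))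
  have hl : Ideal.ofList l = ext 𝔠 := by
    rw [← Ideal.map_ofList, ← hg]
    congr 1
    simp [Ideal.ofList, List.mem_ofFn, Set.range]
  refine (isGor_quot_iff h𝔠 hle).mpr ?_
  have hmem : ∀ a ∈ l, a ∈ maximalIdeal (Vtx K n) := fun a ha =>
    le_maximalIdeal (ext_ne_top hle) (hl ▸ Ideal.subset_span ha)
  have h := gor_ci l hmem (by rw [hl, height_ext h𝔠 hle, h𝔠c]; simp [l])
  exact Gor.FlatLocal.gorenstein_of_ringEquiv (R := Vtx K n ⧸ Ideal.ofList l) (Ideal.quotEquivOfEq hl)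

/-- The intersection of geometrically linked arithmetically Cohen–Macaulay subschemes. -/
theorem gor_sup_linked {c : ℕ} {I₁ I₂ : Ideal (Pol K n)}
    (hI₁ : I₁.IsHomogeneous (GrSyz.stdGr K (Fin (n + 1)))) (hI₂ : I₂.IsHomogeneous (GrSyz.stdGr K (Fin (n + 1))))
    [hc₁ : LocCoh.IsCohenMacaulayRing (Pol K n ⧸ I₁)] [hc₂ : LocCoh.IsCohenMacaulayRing (Pol K n ⧸ I₂)]
    (h₁ : I₁.height = c) (h₂ : I₂.height = c) (hdisj : Disjoint I₁.minimalPrimes I₂.minimalPrimes)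
    [hG : LocCoh.IsGorensteinRing (Pol K n ⧸ (I₁ ⊓ I₂))] :
    (I₁ ⊔ I₂).height = c + 1 ∧ LocCoh.IsGorensteinRing (Pol K n ⧸ (I₁ ⊔ I₂)) := by
  set 𝔠 := I₁ ⊓ I₂ with h𝔠def
  have h𝔠 : 𝔠.IsHomogeneous (GrSyz.stdGr K (Fin (n + 1))) := hI₁.inf hI₂
  set S := I₁ ⊔ I₂ with hSdef
  have hS : S.IsHomogeneous (GrSyz.stdGr K (Fin (n + 1))) := hI₁.sup hI₂
  have hle₁ := le_irr hI₁ (fun e => by simp [e, Ideal.height_top] at h₁)
  have hle₂ := le_irr hI₂ (fun e => by simp [e, Ideal.height_top] at h₂)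
  have hSle : S ≤ irr K n := sup_le hle₁ hle₂
  have h𝔠le : 𝔠 ≤ irr K n := inf_le_left.trans hle₁
  have h𝔠S : 𝔠 ≤ S := inf_le_left.trans le_sup_left
  have hor : ∀ P : Ideal (Pol K n), P.IsPrime → 𝔠 ≤ P → I₁ ≤ P ∨ I₂ ≤ P := fun P hP h => hP.inf_le.mp h
  have h𝔠c : 𝔠.height = c := by
    refine le_antisymm (h₁ ▸ Ideal.height_mono inf_le_left) ?_
    rw [Ideal.height_eq_inf_minimalPrimes (I := 𝔠)]
    refine le_iInf₂ fun P hP => ?_
    rcases hor P hP.1.1 hP.1.2 with h | h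
    · exact h₁ ▸ Ideal.height_mono h
    · exact h₂ ▸ Ideal.height_mono h
  haveI := (isGor_quot_iff h𝔠 h𝔠le).mp hG
  haveI := (isCM_quot_iff hI₁ hle₁).mp hc₁
  haveI := (isCM_quot_iff hI₂ hle₂).mp hc₂
  haveI i₁ := FlatMor.CMFlat.isCM_of_ringEquiv (imgEquiv (inf_le_left : 𝔠 ≤ I₁)).symm
    ((isCM_quot_iff hI₁ hle₁).mp hc₁)
  haveI i₂ := FlatMor.CMFlat.isCM_of_ringEquiv (imgEquiv (inf_le_right : 𝔠 ≤ I₂)).symm
    ((isCM_quot_iff hI₂ hle₂).mp hc₂)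
  have hd₁ : ringKrullDim ((Vtx K n ⧸ ext 𝔠) ⧸ img 𝔠 I₁) = ringKrullDim (Vtx K n ⧸ ext 𝔠) := by
    rw [dim_img (inf_le_left : 𝔠 ≤ I₁), dim_eq_of_height_eq hI₁ h𝔠 hle₁ h𝔠le h₁ h𝔠c]
  have hd₂ : ringKrullDim ((Vtx K n ⧸ ext 𝔠) ⧸ img 𝔠 I₂) = ringKrullDim (Vtx K n ⧸ ext 𝔠) := by
    rw [dim_img (inf_le_right : 𝔠 ≤ I₂), dim_eq_of_height_eq hI₂ h𝔠 hle₂ h𝔠le h₂ h𝔠c]
  have hinf : img 𝔠 I₁ ⊓ img 𝔠 I₂ = ⊥ := by
    refine (Submodule.eq_bot_iff _).mpr fun y hy => ?_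
    obtain ⟨a, rfl⟩ := Ideal.Quotient.mk_surjective y
    obtain ⟨hy1, hy2⟩ := hy
    have hy1' := (mem_map_mk_iff _ _ a).mp hy1
    have hy2' := (mem_map_mk_iff _ _ a).mp hy2
    rw [sup_eq_left.mpr (Ideal.map_mono (inf_le_left : 𝔠 ≤ I₁))] at hy1'
    rw [sup_eq_left.mpr (Ideal.map_mono (inf_le_right : 𝔠 ≤ I₂))] at hy2'
    rw [Ideal.Quotient.eq_zero_iff_mem]
    obtain ⟨⟨x, d⟩, hxd⟩ := IsLocalization.surj (irr K n).primeCompl a
    have hx : ∀ I : Ideal (Pol K n), a ∈ ext I → ∃ m : (irr K n).primeCompl, (m : Pol K n) * x ∈ I := fun I ha => by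
      have := Ideal.mul_mem_right (algebraMap (Pol K n) (Vtx K n) d) _ ha
      rw [hxd] at this
      obtain ⟨m, hm, hm'⟩ :=
        (IsLocalization.algebraMap_mem_map_algebraMap_iff (irr K n).primeCompl (Vtx K n) I _).mp this
      exact ⟨⟨m, hm⟩, hm'⟩
    obtain ⟨m₁, hm₁⟩ := hx I₁ hy1'
    obtain ⟨m₂, hm₂⟩ := hx I₂ hy2'
    have hmem : ((m₁ * m₂ : (irr K n).primeCompl) : Pol K n) * x ∈ 𝔠 := by
      rw [Submonoid.coe_mul]
      exact ⟨by rw [show (m₁ : Pol K n) * m₂ * x = m₂ * (m₁ * x) by ring]; exact I₁.mul_mem_left _ hm₁,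
        by rw [mul_assoc]; exact I₂.mul_mem_left _ hm₂⟩
    have h3 := Ideal.mem_map_of_mem (algebraMap (Pol K n) (Vtx K n)) hmem
    rw [map_mul, ← hxd] at h3
    refine (Ideal.unit_mul_mem_iff_mem _ ((IsLocalization.map_units (Vtx K n) (m₁ * m₂)).mul
      (IsLocalization.map_units (Vtx K n) d))).mp ?_
    rw [mul_assoc, mul_comm (algebraMap (Pol K n) (Vtx K n) d)]
    exact h3
  have hsup : img 𝔠 I₁ ⊔ img 𝔠 I₂ = img 𝔠 S := by simp only [hSdef, img, ext, Ideal.map_sup]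
  haveI hcmA := Gor.Basic.isCohenMacaulay_of_gorenstein (A := Vtx K n ⧸ ext 𝔠)
  have hnle : ∀ p ∈ associatedPrimes (Vtx K n ⧸ ext 𝔠) (Vtx K n ⧸ ext 𝔠), ¬ img 𝔠 S ≤ p := by
    intro p hp hle
    haveI := Depth.isPrime_of_mem_associatedPrimes hp
    have h1 := Depth.ringKrullDim_quotient_associatedPrime
      ((Depth.isCohenMacaulayLocalRing_iff (R := Vtx K n ⧸ ext 𝔠)).mp inferInstance) hp
    rw [Module.supportDim_self_eq_ringKrullDim] at h1
    let φ := (Ideal.Quotient.mk (ext 𝔠)).comp (algebraMap (Pol K n) (Vtx K n))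
    set P := p.comap φ with hPdef
    have hSP : S ≤ P := fun x hx => hle (Ideal.mem_map_of_mem _ (Ideal.mem_map_of_mem _ hx))
    have hPmin : P ∈ 𝔠.minimalPrimes := by
      refine ⟨⟨Ideal.IsPrime.comap φ, h𝔠S.trans hSP⟩, fun q hq hqP => ?_⟩
      haveI := hq.1
      have hqle : q ≤ irr K n := hqP.trans fun x hx => by
        by_contra hxn
        exact (Depth.isPrime_of_mem_associatedPrimes hp).ne_top (Ideal.eq_top_of_isUnit_mem _ hx
          ((IsLocalization.map_units (Vtx K n) (⟨x, hxn⟩ : (irr K n).primeCompl)).map (Ideal.Quotient.mk (ext 𝔠))))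
      have hdisj' : Disjoint ((irr K n).primeCompl : Set (Pol K n)) (q : Set (Pol K n)) :=
        Set.disjoint_left.2 fun x hx hxq => hx (hqle hxq)
      haveI := IsLocalization.isPrime_of_isPrime_disjoint (irr K n).primeCompl (Vtx K n) q hq.1 hdisj'
      have hq' : (ext q).map (Ideal.Quotient.mk (ext 𝔠)) ≤ p := by
        rw [Ideal.map_map]; exact Ideal.map_le_iff_le_comap.mpr hqP
      haveI : ((ext q).map (Ideal.Quotient.mk (ext 𝔠))).IsPrime :=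
        Ideal.map_isPrime_of_surjective Ideal.Quotient.mk_surjective
          (by rw [Ideal.mk_ker]; exact Ideal.map_mono hq.2)
      have hqp : (ext q).map (Ideal.Quotient.mk (ext 𝔠)) = p := by
        refine hq'.antisymm ?_
        by_contra hne
        have hlt := Depth.ringKrullDim_quotient_succ_le (lt_of_le_of_ne hq' fun e => hne e.ge)
        have h2 := ringKrullDim_le_of_surjective
          (Ideal.Quotient.mk ((ext q).map (Ideal.Quotient.mk (ext 𝔠)))) Ideal.Quotient.mk_surjective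
        obtain ⟨d, hd⟩ := Gor.Basic.exists_natCast_ringKrullDim (A := Vtx K n ⧸ ext 𝔠)
        rw [h1, hd] at hlt
        have h3 := hlt.trans (h2.trans hd.le)
        norm_cast at h3
        omega
      intro x hx
      have h4 : φ x ∈ (ext q).map (Ideal.Quotient.mk (ext 𝔠)) := hqp ▸ hx
      have h5 := (mem_map_mk_iff _ _ _).mp h4
      rw [sup_eq_left.mpr (Ideal.map_mono hq.2)] at h5
      rw [← IsLocalization.under_map_of_isPrime_disjoint (irr K n).primeCompl (Vtx K n) hq.1 hdisj']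
      exact h5
    have hmin : ∀ I : Ideal (Pol K n), 𝔠 ≤ I → I ≤ P → P ∈ I.minimalPrimes := fun I h hI =>
      ⟨⟨hPmin.1.1, hI⟩, fun q hq hqP => hPmin.2 ⟨hq.1, h.trans hq.2⟩ hqP⟩
    exact Set.disjoint_left.mp hdisj (hmin I₁ inf_le_left (le_sup_left.trans hSP))
      (hmin I₂ inf_le_right (le_sup_right.trans hSP))
  obtain ⟨x, hxS, hx⟩ := Depth.exists_isSMulRegular_of_forall_not_le
    (M := Vtx K n ⧸ ext 𝔠) hnle
  have hlt := dim_lt_of_regular_mem hxS (img_ne_top h𝔠S hSle) hx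
  obtain ⟨d, hd⟩ := Gor.Basic.exists_natCast_ringKrullDim (A := Vtx K n ⧸ ext 𝔠)
  obtain ⟨hGS, hDS⟩ := gor_sup d _ (img 𝔠 I₁) (img 𝔠 I₂) hd hinf (isMCMQuot hd₁) (isMCMQuot hd₂)
    (by rw [hsup]; exact img_ne_top h𝔠S hSle) (by rw [hsup]; exact hlt)
  let ε : ((Vtx K n ⧸ ext 𝔠) ⧸ (img 𝔠 I₁ ⊔ img 𝔠 I₂)) ≃+* Vtx K n ⧸ ext S :=
    (Ideal.quotEquivOfEq hsup).trans (imgEquiv h𝔠S)
  haveI hGS' : LocCoh.IsGorensteinLocalRing (Vtx K n ⧸ ext S) := Gor.FlatLocal.gorenstein_of_ringEquiv ε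
  refine ⟨?_, (isGor_quot_iff hS hSle).mpr hGS'⟩
  haveI := gorenstein_vtx (K := K) (n := n)
  haveI := Gor.Basic.isCohenMacaulay_of_gorenstein (A := Vtx K n)
  rw [ringKrullDim_eq_of_ringEquiv ε] at hDS
  obtain ⟨b, hb⟩ := Gor.Basic.exists_natCast_ringKrullDim (A := Vtx K n ⧸ ext S)
  have e1 := dim_add_height (ext_ne_top (n := n) hSle)
  have e2 := dim_add_height (ext_ne_top (n := n) h𝔠le)
  rw [height_ext h𝔠 h𝔠le, h𝔠c, ← hDS] at e2
  rw [height_ext hS hSle, e2, hb] at e1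
  obtain ⟨s, hs⟩ := ENat.ne_top_iff_exists.1
    (Ideal.height_ne_top (I := S) (fun e => (irr_isMaximal K n).ne_top (top_le_iff.mp (e ▸ hSle))))
  rw [← hs] at e1 ⊢
  have e' : b + 1 + c = b + s := by exact_mod_cast e1
  exact_mod_cast (by omega : s = c + 1)

end Groth.Agent.LiaisonGr
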