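import Groth.Prelude.Def_CAlg
import Groth.Prelude.Def_GrSyz
import Groth.Agent.S18865
import Groth.Agent.FiltRees.Graded
import Groth.Agent.InvGor.Global
import Groth.Agent.GrLC.Basic
import Groth.Agent.Gor.Ring
import Groth.Agent.Gor.LCI
import Groth.Agent.LiaisonGr.Local

/-!
# Homogeneous quotients of a standard graded polynomial ring, tested at the vertex
-/

set_option autoImplicit false
set_option linter.style.haveILetI false
universe u

open IsLocalRing

noncomputable section

namespace Groth.Agent.LiaisonGr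

variable (K : Type u) [Field K] (n : ℕ)

/-- The polynomial ring. -/
abbrev Pol := MvPolynomial (Fin (n + 1)) K

/-- The vertex. -/
abbrev irr : Ideal (Pol K n) := RingHom.ker (MvPolynomial.constantCoeff (σ := Fin (n + 1)) (R := K))

instance irr_isMaximal : (irr K n).IsMaximal :=
  RingHom.ker_isMaximal_of_surjective _ fun r => ⟨MvPolynomial.C r, MvPolynomial.constantCoeff_C _ r⟩

/-- The local ring at the vertex. -/
abbrev Vtx := Localization.AtPrime (irr K n)

variable {K n}

/-- The extension of an ideal to the local ring at the vertex. -/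
abbrev ext (L : Ideal (Pol K n)) : Ideal (Vtx K n) := L.map (algebraMap (Pol K n) (Vtx K n))

theorem gorenstein_vtx : LocCoh.IsGorensteinLocalRing (Vtx K n) := by
  haveI : IsRegularRing (Pol K n) := inferInstance
  exact (Gor.Ring.isGorensteinRing_of_isRegularRing (Pol K n)).isGorensteinLocalRing_localization (irr K n)

theorem le_irr_of_isPrime {P : Ideal (Pol K n)} [hP : P.IsPrime]
    (hhom : P.IsHomogeneous (GrSyz.stdGr K (Fin (n + 1)))) : P ≤ irr K n :=
  S18865.minimal_le_ker hhom ⟨⟨hP, le_rfl⟩, fun _ hq _ => hq.2⟩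

theorem le_irr {L : Ideal (Pol K n)} (hL : L.IsHomogeneous (GrSyz.stdGr K (Fin (n + 1)))) (h : L ≠ ⊤) :
    L ≤ irr K n := by
  obtain ⟨M, hM, hLM⟩ := Ideal.exists_le_maximal L h
  obtain ⟨P, hP, -⟩ := Ideal.exists_minimalPrimes_le (J := M) hLM
  exact hP.1.2.trans (S18865.minimal_le_ker hL hP)

theorem ext_ne_top {L : Ideal (Pol K n)} (hle : L ≤ irr K n) : ext L ≠ ⊤ := fun h =>
  (maximalIdeal.isMaximal (Vtx K n)).ne_top (top_le_iff.mp (h ▸ (Ideal.map_mono hle).trans
    (IsLocalization.AtPrime.map_eq_maximalIdeal (irr K n) (Vtx K n)).le))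

theorem height_ext {L : Ideal (Pol K n)} (hL : L.IsHomogeneous (GrSyz.stdGr K (Fin (n + 1))))
    (hle : L ≤ irr K n) : (ext L).height = L.height := by
  refine le_antisymm ?_ ?_
  · rw [Ideal.height_eq_inf_minimalPrimes (I := L)]
    refine le_iInf₂ fun P hP => ?_
    have hPp := hP.1.1
    have hPle := S18865.minimal_le_ker hL hP
    have hdisj : Disjoint ((irr K n).primeCompl : Set (Pol K n)) (P : Set (Pol K n)) :=
      Set.disjoint_left.2 fun x hx hxP => hx (hPle hxP)
    have := IsLocalization.isPrime_of_isPrime_disjoint (irr K n).primeCompl (Vtx K n) P hPp hdisj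
    refine (Ideal.height_mono (Ideal.map_mono hP.1.2)).trans (le_of_eq ?_)
    rw [← IsLocalization.height_under (irr K n).primeCompl (ext P),
      IsLocalization.under_map_of_isPrime_disjoint (irr K n).primeCompl (Vtx K n) hPp hdisj]
  · rw [Ideal.height_eq_inf_minimalPrimes (I := ext L)]
    refine le_iInf₂ fun Q hQ => ?_
    have := hQ.1.1
    rw [← IsLocalization.height_under (irr K n).primeCompl Q]
    exact Ideal.height_mono ((Ideal.map_le_iff_le_comap).mp hQ.1.2)

section Graded

variable (L : HomogeneousIdeal (GrSyz.stdGr K (Fin (n + 1))))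

/-- The pieces of the quotient. -/
def qGr : ℤ → AddSubgroup (Pol K n ⧸ L.toIdeal) :=
  GrLC.quoGr (GrSyz.stdGr K (Fin (n + 1))) L.toIdeal

instance qGr_gradedMonoid : SetLike.GradedMonoid (qGr L) where
  one_mem := ⟨1, SetLike.one_mem_graded (GrSyz.stdGr K (Fin (n + 1))), rfl⟩
  mul_mem := by
    rintro i j _ _ ⟨a, ha, rfl⟩ ⟨b, hb, rfl⟩
    exact ⟨a * b, SetLike.mul_mem_graded (A := GrSyz.stdGr K (Fin (n + 1))) ha hb, map_mul (Ideal.Quotient.mk L.toIdeal) a b⟩

instance qGr_gradedRing : GradedRing (qGr L) :=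
  { (GrLC.isInternal_quoGr (GrSyz.stdGr K (Fin (n + 1)))
      (P := L.toIdeal) L.isHomogeneous).chooseDecomposition,
    (inferInstance : SetLike.GradedMonoid (qGr L)) with }

theorem le_map_irr (hle : L.toIdeal ≤ irr K n) (P : Ideal (Pol K n ⧸ L.toIdeal)) (hP : P.IsPrime)
    (hhom : P.IsHomogeneous (qGr L)) : P ≤ (irr K n).map (Ideal.Quotient.mk L.toIdeal) := by
  have hc : (P.comap (Ideal.Quotient.mk L.toIdeal)).IsHomogeneous (GrSyz.stdGr K (Fin (n + 1))) := by
    classical
    intro i x hx
    rw [Ideal.mem_comap] at hx ⊢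
    have key : Ideal.Quotient.mk L.toIdeal
        (DirectSum.decompose (GrSyz.stdGr K (Fin (n + 1))) x i : Pol K n) =
        (DirectSum.decompose (qGr L) (Ideal.Quotient.mk L.toIdeal x) i : Pol K n ⧸ L.toIdeal) := by
      clear hx
      induction x using DirectSum.Decomposition.inductionOn (GrSyz.stdGr K (Fin (n + 1))) with
      | zero => simp
      | @homogeneous j m =>
        have hm : Ideal.Quotient.mk L.toIdeal (m : Pol K n) ∈ qGr L j := ⟨m, m.2, rfl⟩
        by_cases hji : j = i
        · subst hji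
          rw [DirectSum.decompose_of_mem_same _ m.2, DirectSum.decompose_of_mem_same _ hm]
        · rw [DirectSum.decompose_of_mem_ne _ m.2 hji, DirectSum.decompose_of_mem_ne _ hm hji, map_zero]
      | add a b ha hb => simp only [map_add, DirectSum.decompose_add, DirectSum.add_apply,
          AddMemClass.coe_add, Submodule.coe_add, ha, hb]
    rw [key]
    exact hhom i hx
  haveI := hP.comap (Ideal.Quotient.mk L.toIdeal)
  rw [← Ideal.map_comap_of_surjective _ Ideal.Quotient.mk_surjective P]
  exact Ideal.map_mono (le_irr_of_isPrime hc)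

theorem vtx_isPrime (hle : L.toIdeal ≤ irr K n) :
    ((irr K n).map (Ideal.Quotient.mk L.toIdeal)).IsPrime :=
  Ideal.map_isPrime_of_surjective Ideal.Quotient.mk_surjective (by rwa [Ideal.mk_ker])

theorem vtx_equiv (hle : L.toIdeal ≤ irr K n) [((irr K n).map (Ideal.Quotient.mk L.toIdeal)).IsPrime] :
    Nonempty ((Vtx K n ⧸ ext L.toIdeal) ≃+*
      Localization.AtPrime ((irr K n).map (Ideal.Quotient.mk L.toIdeal))) := by
  set q := (irr K n).map (Ideal.Quotient.mk L.toIdeal)
  have hq : q.comap (Ideal.Quotient.mk L.toIdeal) = irr K n := by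
    rw [Ideal.comap_map_of_surjective _ Ideal.Quotient.mk_surjective, ← RingHom.ker_eq_comap_bot,
      Ideal.mk_ker, sup_eq_left.2 hle]
  haveI : IsLocalization.AtPrime (Vtx K n) (q.comap (Ideal.Quotient.mk L.toIdeal)) := by
    simpa only [hq] using! (inferInstance : IsLocalization.AtPrime (Vtx K n) (irr K n))
  haveI := Gor.LCI.isLocalization_quotient_atPrime L.toIdeal q (Vtx K n)
  exact ⟨(IsLocalization.algEquiv q.primeCompl (Vtx K n ⧸ ext L.toIdeal) (Localization.AtPrime q)).toRingEquiv⟩

end Graded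

variable {L : Ideal (Pol K n)}

/-- A homogeneous quotient is Cohen–Macaulay iff it is so at the vertex. -/
theorem isCM_quot_iff (hL : L.IsHomogeneous (GrSyz.stdGr K (Fin (n + 1)))) (hle : L ≤ irr K n) :
    LocCoh.IsCohenMacaulayRing (Pol K n ⧸ L) ↔ LocCoh.IsCohenMacaulayLocalRing (Vtx K n ⧸ ext L) := by
  let L' : HomogeneousIdeal (GrSyz.stdGr K (Fin (n + 1))) := ⟨L, hL⟩
  haveI := vtx_isPrime L' hle
  obtain ⟨e⟩ := vtx_equiv L' hle
  constructor
  · intro h
    exact FlatMor.CMFlat.isCM_of_ringEquiv e.symm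
      (h.isCohenMacaulayLocalRing_localization ((irr K n).map (Ideal.Quotient.mk L'.toIdeal)))
  · intro h
    show LocCoh.IsCohenMacaulayRing (Pol K n ⧸ L'.toIdeal)
    exact @FiltRees.isCohenMacaulayRing_of_graded _ _ _ _ _ _ _ _ (qGr L') (qGr_gradedRing L') _ _ (le_map_irr L' hle)
      (FlatMor.CMFlat.isCM_of_ringEquiv e h)

/-- A homogeneous quotient is Gorenstein iff it is so at the vertex. -/
theorem isGor_quot_iff (hL : L.IsHomogeneous (GrSyz.stdGr K (Fin (n + 1)))) (hle : L ≤ irr K n) :
    LocCoh.IsGorensteinRing (Pol K n ⧸ L) ↔ LocCoh.IsGorensteinLocalRing (Vtx K n ⧸ ext L) := by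
  let L' : HomogeneousIdeal (GrSyz.stdGr K (Fin (n + 1))) := ⟨L, hL⟩
  haveI := vtx_isPrime L' hle
  obtain ⟨e⟩ := vtx_equiv L' hle
  constructor
  · intro h
    haveI := h.isGorensteinLocalRing_localization ((irr K n).map (Ideal.Quotient.mk L'.toIdeal))
    exact Gor.FlatLocal.gorenstein_of_ringEquiv
      (R := Localization.AtPrime ((irr K n).map (Ideal.Quotient.mk L'.toIdeal))) e.symm
  · intro h
    show LocCoh.IsGorensteinRing (Pol K n ⧸ L'.toIdeal)
    exact @InvGor.isGorensteinRing_of_graded _ _ _ _ _ _ _ _ (qGr L') (qGr_gradedRing L') _ _ (le_map_irr L' hle)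
      (Gor.FlatLocal.gorenstein_of_ringEquiv (R := Vtx K n ⧸ ext L) e)

theorem isHomogeneous_colon {I : Ideal (Pol K n)} (hI : I.IsHomogeneous (GrSyz.stdGr K (Fin (n + 1))))
    (hL : L.IsHomogeneous (GrSyz.stdGr K (Fin (n + 1)))) :
    (L.colon (I : Set (Pol K n))).IsHomogeneous (GrSyz.stdGr K (Fin (n + 1))) := by
  classical
  intro i x hx
  rw [Submodule.mem_colon] at hx ⊢
  intro y hy
  rw [← DirectSum.sum_support_decompose (GrSyz.stdGr K (Fin (n + 1))) y, smul_eq_mul, Finset.mul_sum]
  refine L.sum_mem fun j _ => ?_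
  have hj := (DirectSum.decompose (GrSyz.stdGr K (Fin (n + 1))) y j).2
  rw [← DirectSum.coe_decompose_mul_add_of_right_mem (GrSyz.stdGr K (Fin (n + 1))) hj]
  exact hL _ (hx _ (hI j hy))

/-- Colons commute with localisation at the vertex. -/
theorem ext_colon (L I : Ideal (Pol K n)) :
    ext (L.colon (I : Set (Pol K n))) = (ext L).colon (ext I : Set (Vtx K n)) := by
  classical
  refine le_antisymm (Ideal.map_le_iff_le_comap.mpr fun x hx => ?_) fun y hy => ?_
  · rw [Ideal.mem_comap, Submodule.mem_colon]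
    intro z hz
    have h : Ideal.span {x} * I ≤ L := Ideal.mul_le.mpr fun r hr s hs => by
      obtain ⟨c, rfl⟩ := Ideal.mem_span_singleton'.mp hr
      rw [mul_assoc]
      exact L.mul_mem_left c (Submodule.mem_colon.mp hx s hs)
    have h' := Ideal.map_mono (f := algebraMap (Pol K n) (Vtx K n)) h
    rw [Ideal.map_mul, Ideal.map_span, Set.image_singleton] at h'
    exact h' (Ideal.mul_mem_mul (Ideal.mem_span_singleton_self _) hz)
  · obtain ⟨⟨x, d⟩, hxd⟩ := IsLocalization.surj (irr K n).primeCompl y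
    obtain ⟨G, hG⟩ := IsNoetherian.noetherian I
    have hm : ∀ s ∈ G, ∃ m : (irr K n).primeCompl, (m : Pol K n) * (x * s) ∈ L := fun s hs => by
      have h1 := Submodule.mem_colon.mp hy _
        (Ideal.mem_map_of_mem (algebraMap (Pol K n) (Vtx K n)) (hG ▸ Submodule.subset_span hs))
      have h2 := Ideal.mul_mem_left _ (algebraMap (Pol K n) (Vtx K n) d) h1
      rw [smul_eq_mul, ← mul_assoc, mul_comm (algebraMap (Pol K n) (Vtx K n) d), hxd, ← map_mul] at h2
      obtain ⟨m, hm, hm'⟩ :=
        (IsLocalization.algebraMap_mem_map_algebraMap_iff (irr K n).primeCompl (Vtx K n) L _).mp h2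
      exact ⟨⟨m, hm⟩, hm'⟩
    choose! m hm using hm
    let M := ∏ s ∈ G, m s
    have hM : (M : Pol K n) * x ∈ L.colon (I : Set (Pol K n)) := by
      rw [Submodule.mem_colon]
      intro z hz
      have hle : I ≤ L.colon {(M : Pol K n) * x} := by
        rw [← hG, Submodule.span_le]
        intro s hs
        rw [SetLike.mem_coe, Submodule.mem_colon_singleton, smul_eq_mul]
        rw [show M = m s * ∏ t ∈ G.erase s, m t from (Finset.mul_prod_erase G m hs).symm, Submonoid.coe_mul,
          show s * ((m s : Pol K n) * ((∏ t ∈ G.erase s, m t : (irr K n).primeCompl) : Pol K n) * x) =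
            ((∏ t ∈ G.erase s, m t : (irr K n).primeCompl) : Pol K n) * ((m s : Pol K n) * (x * s)) by ring]
        exact L.mul_mem_left _ (hm s hs)
      have := Submodule.mem_colon_singleton.mp (hle hz)
      rw [smul_eq_mul, mul_comm] at this
      exact this
    have h3 := Ideal.mem_map_of_mem (algebraMap (Pol K n) (Vtx K n)) hM
    rw [map_mul, ← hxd] at h3
    refine (Ideal.unit_mul_mem_iff_mem _ ((IsLocalization.map_units (Vtx K n) M).mul
      (IsLocalization.map_units (Vtx K n) d))).mp ?_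
    rw [mul_assoc, mul_comm (algebraMap (Pol K n) (Vtx K n) d)]
    exact h3

/-- In `Vtx/𝔠` the annihilator of `I` is the colon. -/
theorem annihilator_map_mk {B : Type u} [CommRing B] (C I : Ideal B) :
    Submodule.annihilator (I.map (Ideal.Quotient.mk C)) = (C.colon (I : Set B)).map (Ideal.Quotient.mk C) := by
  ext y
  obtain ⟨a, rfl⟩ := Ideal.Quotient.mk_surjective y
  have hC : C ≤ C.colon (I : Set B) := fun x hx => Submodule.mem_colon.mpr fun z _ => C.mul_mem_right z hx
  rw [mem_map_mk_iff, sup_eq_left.mpr hC, Submodule.mem_annihilator, Submodule.mem_colon]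
  constructor
  · intro h z hz
    have := h _ (Ideal.mem_map_of_mem _ hz)
    rw [smul_eq_mul, ← map_mul, Ideal.Quotient.eq_zero_iff_mem] at this
    exact this
  · intro h w hw
    obtain ⟨z, hz, rfl⟩ := (Ideal.mem_map_iff_of_surjective _ Ideal.Quotient.mk_surjective).mp hw
    rw [smul_eq_mul, ← map_mul, Ideal.Quotient.eq_zero_iff_mem]
    exact h z hz

end Groth.Agent.LiaisonGr
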